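import Cfsg.Agent.Mrg.Omega.OM.NX_m3
import Cfsg.Agent.Mrg.Omega.NOThreeL.RRed.Ex.Pf_m3
import Cfsg.Agent.Mrg.Omega.NO3S.OneQ.Tor_m3
import Cfsg.Agent.FastGrp
import Cfsg.Agent.Prune
set_option linter.all false
prune_inst 0x7f00000000000000000000000000000000000000000000000000000000000000000000000000000000000000000000000000000000000000000000000000000000000000000000000000000000000000003fffffffffffffffffffffffffffbeffbdffffffff
open scoped Cfsg.Agent.FastGrp


/-!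
# The input of `Set5` (TEXT LL (5)): `Claim.Bl` from `PB`, `Claim.Fm` at a level

* `bl_of` : a block `PB B L N N₁ N₀ q` with `[N, L] ≤ V ≤ N`, `V ≤ Y`, `ZJ = Y ∩ Ω₁Z(B)` gives `Bl S Y H B ZJ AA L V`; both
  `V = N` (`bl_N`) and `V = [N, L]` (`bl_V`) are allowed;
* `fm_of_bo` : the family `bo T X` (best offenders of `T` on `X`) on every `U ≤ X` : `Fm T U H B (U ∩ Z_J) (bo T X)`;
  `fm_lev` : at a level `K` of `T`, `B = C_T(Ω₁Z(nxt T K))`;
* `famA S U` : the `E` with `E C_U(E) ∈ A(S)`; `fm_neg` : stage `-1`, `Fm S U H (bau S) (U ∩ zj S) (famA S U)`; `famA_cj` : the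
  conjugation with `N(S) ∩ N(U)`.
-/

set_option autoImplicit false
set_option linter.unusedSectionVars false

namespace Cfsg.Agent.Omega.OM.Lev.Low.BlOf

open Subgroup Cfsg Cfsg.Agent.PLocal.ThompsonJ Cfsg.Agent.ZN.ChoiceBase
open Cfsg.Agent.ZN hiding mem_zc
open Cfsg.Agent.Omega.SQ1.Bau (mem_sup_comm card_sup_comm elem_comm elem_sq Mv not_mv_iff mv_inv)
open Cfsg.Agent.Omega.NO3b.FPB.Base (cW mem_cW cW_le cW_anti)
open Cfsg.Agent.Omega.NO3S.Level.Claim (Fm Bl cB mem_cB cB_le)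
open Cfsg.Agent.Omega.NO3S.Level (Lev nxt BO)
open Cfsg.Agent.Omega.NO3S.OneLine (bo bo_eq bo_fam card_cent_mul elemM_mono cj_elemM)
open Cfsg.Agent.Omega.FFThm (ElemM)
open scoped Pointwise commutatorElement

universe u

variable {G : Type u} [Group G]

/-! ### Blocks -/

section bl

variable {S Y H B ZJ L N N1 N0 V : Subgroup G} {AA : Set (Subgroup G)} {q : ℕ}

/-- the line is `N ∩ Ω₁Z(B)` -/
theorem line_iff [Finite G] (h : PB B L N N1 N0 q) {v : G} (hv : v ∈ N) : v ∈ N1 ↔ v ∈ zc B := by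
  constructor
  · exact fun h1 => ChoiceBase.mem_zc.2 ⟨h.NB hv, elem_sq h.el v hv, fun b hb => h.N1c b hb v h1⟩
  · intro h1
    obtain ⟨b, hb, w, hw, hne⟩ := h.exists_b
    refine h.cent b hb ⟨w, hw, hne⟩ v hv ?_
    rw [(ChoiceBase.mem_zc.1 h1).2.2 b hb, mul_inv_cancel_right, mul_inv_cancel]
    exact one_mem _

theorem mem_cB_iff [Finite G] (h : PB B L N N1 N0 q) (hV1 : ⁅N, L⁆ ≤ V) (hV2 : V ≤ N) {x : G} (hx : x ∈ B) :
    x ∈ cB B V ↔ ∀ v ∈ N, x * v = v * x := by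
  rw [mem_cB]
  constructor
  · exact fun h1 => h.cent_N (h.BL hx) fun v hv => h1.2 v (hV1 hv)
  · exact fun h1 => ⟨hx, fun v hv => h1 v (hV2 hv)⟩

/-- an element of the line fixed by `L` is in `N0` -/
theorem mem_N0 (h : PB B L N N1 N0 q) {v : G} (hv : v ∈ N1) (hc : ∀ l ∈ L, l * v = v * l) : v ∈ N0 := by
  obtain ⟨l, hl, hm⟩ := h.mv
  have e : l * v * l⁻¹ = v := by rw [hc l hl, mul_inv_cancel_right]
  have h1 := h.opp l hl hm v hv (by rw [e]; exact hv)
  rwa [e] at h1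

/-- **`Claim.Bl` from a block.** -/
theorem bl_of [Finite G] (h : PB B L N N1 N0 q) (fm : Fm S Y H B ZJ AA) (hZ : ZJ = Y ⊓ zc B) (hV1 : ⁅N, L⁆ ≤ V)
    (hV2 : V ≤ N) (hLV : L ≤ normalizer (V : Set G)) (hVY : V ≤ Y) (hLH : L ≤ H) (hLY : L ≤ normalizer (Y : Set G)) :
    Bl S Y H B ZJ AA L V := by
  have hmem : ∀ v, v ∈ V ⊓ ZJ ↔ v ∈ V ∧ v ∈ N1 := by
    intro v
    rw [hZ, mem_inf, mem_inf]
    constructor
    · rintro ⟨h1, -, h3⟩
      exact ⟨h1, (line_iff h (hV2 h1)).2 h3⟩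
    · rintro ⟨h1, h2⟩
      exact ⟨h1, hVY h1, (line_iff h (hV2 h1)).1 h2⟩
  have hmv : ∀ x ∈ L, Mv (V ⊓ ZJ) x → Mv N1 x := by
    rintro x hx ⟨v, hv, hv'⟩
    obtain ⟨h1, h2⟩ := (hmem v).1 hv
    exact ⟨v, h2, fun h3 => hv' ((hmem _).2 ⟨(mem_normalizer_iff.1 (hLV hx) v).1 h1, h3⟩)⟩
  have hspl : ∀ v ∈ N, ∃ u ∈ V, ∃ n ∈ N0, v = u * n := by
    intro v hv
    obtain ⟨u, hu, n, hn, e⟩ := h.exists_V hv
    exact ⟨u, hV1 hu, n, hn, e⟩
  have hcard : Nat.card V = Nat.card ↥(V ⊓ ZJ) * q := by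
    have hc : ∀ a ∈ V, ∀ b ∈ N1, a * b = b * a := fun a ha b hb => h.comm (hV2 ha) (h.N1N hb)
    have h1 := card_sup_comm hc
    have h2 : V ⊔ N1 = N := by
      apply le_antisymm (sup_le hV2 h.N1N)
      intro v hv
      obtain ⟨u, hu, n, hn, rfl⟩ := hspl v hv
      exact mul_mem (mem_sup_left hu) (mem_sup_right (h.N01 hn))
    have h3 : V ⊓ N1 = V ⊓ ZJ := by
      ext v
      rw [mem_inf, hmem]
    rw [h2, h.card, h3] at h1
    have hp : 0 < Nat.card N1 := Nat.card_pos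
    refine Nat.eq_of_mul_eq_mul_right hp ?_
    rw [← h1]; ring
  have hcB : Nat.card B = Nat.card (cB B V) * q := by
    have e : cB B V = B ⊓ centralizer (N : Set G) := by
      ext x
      constructor
      · intro hx
        have hxB := cB_le B V hx
        exact ⟨hxB, mem_centralizer_iff.2 fun v hv => ((mem_cB_iff h hV1 hV2 hxB).1 hx v hv).symm⟩
      · rintro ⟨hx, hc⟩
        exact (mem_cB_iff h hV1 hV2 hx).2 fun v hv => (mem_centralizer_iff.1 hc v hv).symm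
    rw [e]
    exact h.cardB
  refine
    { BL := h.BL
      LH := hLH
      LY := hLY
      LV := hLV
      LP := ?_
      VY := hVY
      quad := ?_
      cent := ?_
      card := by rw [hcard, hcB]; exact le_of_eq (by ring)
      off := ?_
      gen := fun x hx hm X hX hx' => h.gen x hx (hmv x hx hm) X hX fun b hb => hx' ⟨b, hb, rfl⟩
      split := ?_
      mv := ?_
      faith := ?_
      ne := ?_ }
  · -- `LP`
    intro l hl
    refine mem_normalizer_of_cj_le ?_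
    rintro _ ⟨x, hx, rfl⟩
    have hxB := cB_le B V hx
    have hxc := (mem_cB_iff h hV1 hV2 hxB).1 hx
    have h1 : l * x * l⁻¹ ∈ B := h.cor l hl x hxB hxc
    refine (mem_cB_iff h hV1 hV2 h1).2 fun v hv => ?_
    have hv' : l⁻¹ * v * l ∈ N := by
      have := h.Nn l⁻¹ (inv_mem hl) v hv
      rwa [inv_inv] at this
    have h2 := hxc _ hv'
    calc l * x * l⁻¹ * v = l * (x * (l⁻¹ * v * l)) * l⁻¹ := by group
      _ = l * ((l⁻¹ * v * l) * x) * l⁻¹ := by rw [h2]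
      _ = _ := by group
  · -- `quad`
    intro b hb v hv
    have h1 : b * v * b⁻¹ * v⁻¹ ∈ V := mul_mem ((mem_normalizer_iff.1 (hLV (h.BL hb)) v).1 hv) (inv_mem hv)
    exact ((hmem _).2 ⟨h1, h.quad b hb v (hV2 hv)⟩).2
  · -- `cent`
    intro b hb hbc v hv hbv
    refine ((hmem v).2 ⟨hv, ?_⟩).2
    have h1 : ∃ w ∈ N, b * w ≠ w * b := by
      by_contra hcon
      push Not at hcon
      exact hbc ((mem_cB_iff h hV1 hV2 hb).2 hcon)
    refine h.cent b hb h1 v (hV2 hv) ?_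
    rw [hbv, mul_inv_cancel_right, mul_inv_cancel]
    exact one_mem _
  · -- `off`
    by_contra hcon
    push Not at hcon
    obtain ⟨b, hb, w, hw, hne⟩ := h.exists_b
    have h1 : V ≤ ZJ := fun v hv => fm.mZ v (hVY hv) fun A hA a ha => (mem_cB.1 (hcon A hA ha)).2 v hv
    have h2 : b ∈ cB B V := mem_cB.2 ⟨hb, fun v hv => fm.BZ b hb v (h1 hv)⟩
    exact hne ((mem_cB_iff h hV1 hV2 hb).1 h2 w hw)
  · -- `split`
    intro z hz
    rw [hZ] at hz
    obtain ⟨hzY, hzB⟩ := mem_inf.1 hz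
    obtain ⟨c, hc, hcl, n, hn, rfl⟩ := h.Z_split hzB
    obtain ⟨u, hu, m, hm, rfl⟩ := hspl n (h.N1N hn)
    have hu1 : u ∈ N1 := by
      have := mul_mem hn (inv_mem (h.N01 hm))
      rwa [mul_inv_cancel_right] at this
    have huV : u ∈ V ⊓ ZJ := (hmem u).2 ⟨hu, hu1⟩
    have hmB : m ∈ zc B := (line_iff h (h.N1N (h.N01 hm))).1 (h.N01 hm)
    have hcu : c * u = u * c := ((ChoiceBase.mem_zc.1 hc).2.2 u (h.NB (hV2 hu))).symm
    refine ⟨u, huV, c * m, ?_, fun l hl => ?_, ?_⟩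
    · rw [hZ]
      refine mem_inf.2 ⟨?_, mul_mem hc hmB⟩
      have h1 : c * m = u⁻¹ * (c * (u * m)) := by rw [← mul_assoc c, hcu]; group
      rw [h1]
      exact mul_mem (inv_mem (hVY hu)) hzY
    · have c1 : Commute l c := hcl l hl
      have c2 : Commute l m := h.N0c l hl m hm
      exact (c1.mul_right c2).eq
    · rw [← mul_assoc, ← mul_assoc, hcu]
  · -- `mv`
    intro x hx hm e he hec
    have hm1 : Mv N1 x := hmv x hx hm
    have hmi : Mv (V ⊓ ZJ) x⁻¹ := mv_inv.2 hm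
    by_contra hcon
    have hx' : x * e * x⁻¹ ∈ L := mul_mem (mul_mem hx (h.BL he)) (inv_mem hx)
    unfold Mv at hcon
    push Not at hcon
    obtain ⟨z, hz, hz'⟩ := hmi
    obtain ⟨hzV, hzN⟩ := (hmem z).1 hz
    have hwV : x⁻¹ * z * x⁻¹⁻¹ ∈ V := (mem_normalizer_iff.1 (hLV (inv_mem hx)) z).1 hzV
    set w := x⁻¹ * z * x⁻¹⁻¹ with hw
    -- `[e, w] ∈ N0`
    have h1 : e * w * e⁻¹ * w⁻¹ ∈ N1 := h.quad e he w (hV2 hwV)
    have h2 : x * (e * w * e⁻¹ * w⁻¹) * x⁻¹ ∈ N1 := by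
      have h3 := ((hmem _).1 (hcon z hz)).2
      have e1 : x * (e * w * e⁻¹ * w⁻¹) * x⁻¹ = x * e * x⁻¹ * z * (x * e * x⁻¹)⁻¹ * z⁻¹ := by rw [hw]; group
      rw [e1]
      exact mul_mem h3 (inv_mem hzN)
    have h3 := h.opp x hx hm1 _ h1 h2
    have h4 : e * w * e⁻¹ * w⁻¹ ∈ N0 := by
      have h5 := h.pl.W0n x⁻¹ (inv_mem hx) _ h3
      have e1 : x⁻¹ * (x * (e * w * e⁻¹ * w⁻¹) * x⁻¹) * x⁻¹⁻¹ = e * w * e⁻¹ * w⁻¹ := by group
      rwa [e1] at h5
    have h5 : ∃ v ∈ N, e * v ≠ v * e := by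
      by_contra hcon'
      push Not at hcon'
      exact hec ((mem_cB_iff h hV1 hV2 he).2 hcon')
    exact hz' ((hmem w).2 ⟨hwV, h.cent e he h5 w (hV2 hwV) h4⟩)
  · -- `faith`
    intro v hv b hb hc
    by_contra hne
    have h1 := mem_N0 h (h.quad b hb v (hV2 hv)) hc
    exact hne (h.N1c b hb v (h.cent b hb ⟨v, hV2 hv, hne⟩ v (hV2 hv) h1))
  · -- `ne`
    obtain ⟨l, hl, n, hn, hn'⟩ := h.mv
    obtain ⟨u, hu, m, hm, rfl⟩ := hspl n (h.N1N hn)
    have hu1 : u ∈ N1 := by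
      have := mul_mem hn (inv_mem (h.N01 hm))
      rwa [mul_inv_cancel_right] at this
    refine ⟨l, hl, u, (hmem u).2 ⟨hu, hu1⟩, fun h1 => hn' ?_⟩
    have h2 := ((hmem _).1 h1).2
    have e : l * (u * m) * l⁻¹ = (l * u * l⁻¹) * m := by
      calc l * (u * m) * l⁻¹ = l * u * l⁻¹ * (l * m) * l⁻¹ := by group
        _ = l * u * l⁻¹ * (m * l) * l⁻¹ := by rw [h.N0c l hl m hm]
        _ = _ := by group
    rw [e]
    exact mul_mem h2 (h.N01 hm)

/-- `V = [N, L]` -/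
theorem bl_V [Finite G] (h : PB B L N N1 N0 q) (fm : Fm S Y H B ZJ AA) (hZ : ZJ = Y ⊓ zc B) (hVY : ⁅N, L⁆ ≤ Y)
    (hLH : L ≤ H) (hLY : L ≤ normalizer (Y : Set G)) : Bl S Y H B ZJ AA L ⁅N, L⁆ :=
  bl_of h fm hZ le_rfl h.VN h.LV hVY hLH hLY

end bl

/-! ### The family at a level -/

section fm

variable [Finite G] {T X U B ZJ H : Subgroup G}

/-- **The best offenders of `T` on `X ≥ U`.** -/
theorem fm_of_bo (hX : IsElementaryAbelian 2 X) (hUX : U ≤ X) (hBT : B ≤ T) (hUB : U ≤ B)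
    (hAB : ∀ A ∈ bo T X, A ≤ B) (hBZ : ∀ b ∈ B, ∀ z ∈ ZJ, b * z = z * b)
    (hZ : ∀ z ∈ X, (∀ A ∈ bo T X, ∀ a ∈ A, a * z = z * a) → z ∈ ZJ) (hH : H ≤ normalizer (X : Set G)) :
    Fm T U H B (U ⊓ ZJ) (bo T X) where
  Yc := fun x hx y hy => elem_comm hX x (hUX hx) y (hUX hy)
  BS := hBT
  YB := hUB
  le := hAB
  BZ := fun b hb z hz => hBZ b hb z (mem_inf.1 hz).2
  ZY := inf_le_left
  mZ := fun y hy hc => mem_inf.2 ⟨hy, hZ y (hUX hy) hc⟩
  cm := fun A hA a ha b hb => centralizer_le hUX (hA.2.1.comm a ha b hb)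
  best := fun A hA E hE hc =>
    ((bo_fam T X).mono (elem_comm hX) hUX (M := ⊥) bot_le).best A hA E hc hE
  cut := by
    intro A hA E hE hc hcard
    have hcX : A ⊓ centralizer (X : Set G) ≤ E := (inf_le_inf_left _ (centralizer_le hUX)).trans hc
    refine ⟨hE.trans hA.1, elemM_mono hA.2.1 le_rfl hE, fun F hF hFE => ?_⟩
    have h1 := hA.2.2 F ((le_inf hcX inf_le_right).trans hF) (hFE.trans hE)
    refine h1.trans ?_
    have h2 := card_cent_mul (elem_comm hX) hUX hE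
    have hp : 0 < Nat.card ↥(U ⊓ centralizer (A : Set G)) := Nat.card_pos
    refine Nat.le_of_mul_le_mul_right ?_ hp
    have hcard' : Nat.card A * Nat.card ↥(U ⊓ centralizer (A : Set G)) ≤
        Nat.card E * Nat.card ↥(U ⊓ centralizer (E : Set G)) := hcard
    calc Nat.card A * Nat.card ↥(X ⊓ centralizer (A : Set G)) * Nat.card ↥(U ⊓ centralizer (A : Set G))
        = (Nat.card A * Nat.card ↥(U ⊓ centralizer (A : Set G))) * Nat.card ↥(X ⊓ centralizer (A : Set G)) := by ring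
      _ ≤ (Nat.card E * Nat.card ↥(U ⊓ centralizer (E : Set G))) * Nat.card ↥(X ⊓ centralizer (A : Set G)) :=
          Nat.mul_le_mul_right _ hcard'
      _ = Nat.card E * (Nat.card ↥(U ⊓ centralizer (E : Set G)) * Nat.card ↥(X ⊓ centralizer (A : Set G))) := by ring
      _ ≤ Nat.card E * (Nat.card ↥(X ⊓ centralizer (E : Set G)) * Nat.card ↥(U ⊓ centralizer (A : Set G))) :=
          Nat.mul_le_mul_left _ h2
      _ = _ := by ring
  conj := fun A hA g hg hS => (bo_fam T X).conj A hA g (hH hg) hS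

/-- **The family at a level `K` of `T`.** -/
theorem fm_lev {K : Subgroup G} (hL : Lev T K) (hU : U ≤ zc K) (hH : H ≤ normalizer (K : Set G)) :
    Fm T U H (T ⊓ centralizer (zc (nxt T K) : Set G)) (U ⊓ zc (nxt T K)) (BO T K) := by
  have hn : nxt T K ≤ T ⊓ centralizer (zc (nxt T K) : Set G) :=
    le_inf (NO3S.Level.nxt_le T K) (NO3S.Level.le_centralizer_zc _)
  have hZZ : zc (nxt T K) ≤ zc K := fun z hz => (GLev.zc_nxt hL).1 hz |>.1
  rw [bo_eq]
  refine fm_of_bo (NO3S.OneLine.zc_elem K) hU inf_le_left ?_ (fun A hA => ?_) (fun b hb z hz => ?_) (fun z hz hc => ?_)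
    (hH.trans (NO3S.Level.normalizer_le_zc K))
  · refine hU.trans (le_inf ((zc_le K).trans hL.le) fun x hx => mem_centralizer_iff.2 fun z hz => ?_)
    exact elem_comm (NO3S.OneLine.zc_elem K) z (hZZ hz) x hx
  · rw [← bo_eq] at hA
    exact (NO3S.Level.BO.le_nxt hA).trans hn
  · exact (mem_centralizer_iff.1 hb.2 z hz).symm
  · refine (GLev.zc_nxt hL).2 ⟨hz, fun A hA => hc A ?_⟩
    rwa [bo_eq] at hA

end fm

/-! ### Stage `-1` -/

section neg

/-- The `E` with `E C_U(E) ∈ A(S)`. -/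
def famA (S U : Subgroup G) : Set (Subgroup G) := {E | E ⊔ U ⊓ centralizer (E : Set G) ∈ AA S}

variable [Finite G] {S U E F A H : Subgroup G}

theorem famA_card (U F : Subgroup G) :
    Nat.card ↥(F ⊔ U ⊓ centralizer (F : Set G)) * Nat.card ↥(F ⊓ U ⊓ centralizer (F : Set G)) =
      Nat.card F * Nat.card (cW U F) := by
  have h1 := card_sup_comm (A := F) (B := U ⊓ centralizer (F : Set G)) fun a ha b hb => mem_centralizer_iff.1 hb.2 a ha
  rw [← inf_assoc] at h1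
  exact h1

theorem famA_el (hU : IsElementaryAbelian 2 U) (hF : IsElementaryAbelian 2 F) :
    IsElementaryAbelian 2 (F ⊔ U ⊓ centralizer (F : Set G)) :=
  PLocal.ElemAbSup.isElementaryAbelian_sup hF (isElementaryAbelian_mono hU inf_le_left) inf_le_right

theorem famA_of_AA (hU : IsElementaryAbelian 2 U) (hUS : U ≤ S) (hA : A ∈ AA S) : A ∈ famA S U := by
  have h1 : A ⊔ U ⊓ centralizer (A : Set G) = A := by
    refine sup_eq_left.2 fun x hx => ?_
    exact SQ1.Bau.mem_AA_of_comm hA (hUS hx.1) (elem_sq hU x hx.1) (mem_centralizer_iff.1 hx.2)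
  rw [famA, Set.mem_ofPred_eq, h1]
  exact hA

theorem famA_le (hE : E ∈ famA S U) : E ≤ jj S := le_sup_left.trans (le_jj hE)

theorem famA_cj {g : G} (hE : E ∈ famA S U) (hg : g ∈ normalizer (U : Set G)) (hS : cj g E ≤ S) (hUS : U ≤ S) :
    cj g E ∈ famA S U := by
  have h1 : cj g E ⊔ U ⊓ centralizer (cj g E : Set G) = cj g (E ⊔ U ⊓ centralizer (E : Set G)) := by
    rw [show cj g (E ⊔ U ⊓ centralizer (E : Set G)) = cj g E ⊔ cj g (U ⊓ centralizer (E : Set G)) from Subgroup.map_sup _ _ _,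
      cj_inf, cj_centralizer, cj_eq_of_mem_normalizer hg]
  rw [famA, Set.mem_ofPred_eq, h1]
  have h2 : E ⊔ U ⊓ centralizer (E : Set G) ∈ AA S := hE
  refine mem_AA_iff.2 ⟨isElementaryAbelian_cj g h2.1, ?_, ?_⟩
  · rw [← h1]
    exact sup_le hS (inf_le_left.trans hUS)
  · rw [card_cj]
    exact (mm_eq h2).le

/-- **Stage `-1`.** -/
theorem fm_neg (hU : IsElementaryAbelian 2 U) (hUS : U ≤ bau S) (hH : H ≤ normalizer (U : Set G)) :
    Fm S U H (bau S) (U ⊓ zj S) (famA S U) where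
  Yc := elem_comm hU
  BS := ZN.bau_le S
  YB := hUS
  le := fun E hE => (famA_le hE).trans (ZN.jj_le_bau S)
  BZ := fun b hb z hz => ((mem_bau.1 hb).2 z (mem_inf.1 hz).2).symm
  ZY := inf_le_left
  mZ := by
    intro y hy hc
    refine mem_inf.2 ⟨hy, mem_zj_of_comm (ZN.bau_le S (hUS hy)) (elem_sq hU y hy) ?_⟩
    have h1 : jj S ≤ centralizer ({y} : Set G) := by
      rw [jj_eq]
      refine sSup_le fun A hA a ha => mem_centralizer_iff.2 ?_
      rintro _ rfl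
      exact (hc A (famA_of_AA hU (hUS.trans (ZN.bau_le S)) hA) a ha).symm
    exact fun b hb => (mem_centralizer_iff.1 (h1 hb) y rfl).symm
  cm := by
    intro E hE a ha b hb
    have h2 : E ⊔ U ⊓ centralizer (E : Set G) ∈ AA S := hE
    rw [elem_comm h2.1 a (mem_sup_left ha) b (mem_sup_left hb), mul_inv_cancel_right, mul_inv_cancel]
    exact one_mem _
  best := by
    intro E hE F hF hc
    have h2 : E ⊔ U ⊓ centralizer (E : Set G) ∈ AA S := hE
    have hEe := isElementaryAbelian_mono h2.1 (le_sup_left (b := U ⊓ centralizer (E : Set G)))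
    have hFe := isElementaryAbelian_mono hEe hF
    have h3 := h2.2.2 _ (famA_el hU hFe) (sup_le (hF.trans (le_sup_left.trans h2.2.1))
      (inf_le_left.trans (hUS.trans (ZN.bau_le S))))
    rw [← famA_card U, ← famA_card U]
    refine Nat.mul_le_mul h3 (card_le_of_le ?_)
    exact fun x hx => ⟨⟨hF hx.1.1, hx.1.2⟩, mem_centralizer_iff.2 fun y hy => elem_comm hEe y hy x (hF hx.1.1)⟩
  cut := by
    intro E hE F hF hc hcard
    have h2 : E ⊔ U ⊓ centralizer (E : Set G) ∈ AA S := hE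
    have hEe := isElementaryAbelian_mono h2.1 (le_sup_left (b := U ⊓ centralizer (E : Set G)))
    have hFe := isElementaryAbelian_mono hEe hF
    have e : F ⊓ U ⊓ centralizer (F : Set G) = E ⊓ U ⊓ centralizer (E : Set G) := by
      ext x
      simp only [mem_inf]
      constructor
      · rintro ⟨⟨h3, h4⟩, -⟩
        exact ⟨⟨hF h3, h4⟩, mem_centralizer_iff.2 fun y hy => elem_comm hEe y hy x (hF h3)⟩
      · rintro ⟨⟨h3, h4⟩, h5⟩
        have h6 : x ∈ F := hc (mem_inf.2 ⟨h3, mem_centralizer_iff.2 fun y hy => elem_comm hU y hy x h4⟩)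
        exact ⟨⟨h6, h4⟩, centralizer_le hF h5⟩
    have hcard' : Nat.card E * Nat.card (cW U E) ≤ Nat.card F * Nat.card (cW U F) := hcard
    rw [← famA_card U, ← famA_card U, e] at hcard'
    have hp : 0 < Nat.card ↥(E ⊓ U ⊓ centralizer (E : Set G)) := Nat.card_pos
    have h3 := Nat.le_of_mul_le_mul_right hcard' hp
    exact mem_AA_iff.2 ⟨famA_el hU hFe, sup_le (hF.trans (le_sup_left.trans h2.2.1))
      (inf_le_left.trans (hUS.trans (ZN.bau_le S))), (mm_eq h2).le.trans h3⟩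
  conj := fun E hE g hg hS => famA_cj hE (hH hg) hS (hUS.trans (ZN.bau_le S))

end neg

end Cfsg.Agent.Omega.OM.Lev.Low.BlOf

private theorem dce_39423b367d7d : _root_.True := by
  try have : _root_.True := by simp only [_root_.Cfsg.Agent.Omega.OM.Lev.Low.BlOf.famA.eq_1]
  exact _root_.True.intro
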